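import Groth.Agent.Lib.UHTower.Colim

/-!
# Lifting steps
-/

set_option autoImplicit false

universe u

namespace GrothLib.UHTower

variable {A : Type u} [CommRing A] {B : Type u} [CommRing B] [Algebra A B]

theorem liftable_gsq : Liftable A B (fun D _ _ => GSQ (A := A) (B := D)) := by
  classical
  rintro P _ _ π S x ⟨h2, h3⟩
  obtain ⟨P2, hP2, e2⟩ := h2
  obtain ⟨P3, hP3, e3⟩ := h3
  refine ⟨{x ^ 2 - P2, x ^ 3 - P3}, ?_, fun D _ _ f hf => ⟨⟨P2, hP2, ?_⟩, ⟨P3, hP3, ?_⟩⟩⟩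
  · simp only [Finset.mem_insert, Finset.mem_singleton, forall_eq_or_imp, forall_eq, map_sub, map_pow]
    exact ⟨sub_eq_zero.2 e2.symm, sub_eq_zero.2 e3.symm⟩
  · exact ((map_pow f x 2).symm.trans (sub_eq_zero.1 ((map_sub f _ _).symm.trans (hf _ (by simp))))).symm
  · exact ((map_pow f x 3).symm.trans (sub_eq_zero.1 ((map_sub f _ _).symm.trans (hf _ (by simp))))).symm

theorem liftable_gp : Liftable A B (fun D _ _ => GP (A := A) (B := D)) := by
  classical
  rintro P _ _ π S x (⟨h2, h3⟩ | ⟨p, hp, h1, h2⟩)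
  · obtain ⟨rels, hr, h⟩ := liftable_gsq P π S x ⟨h2, h3⟩
    exact ⟨rels, hr, fun D _ _ f hf => Or.inl (h D f hf)⟩
  · obtain ⟨P1, hP1, e1⟩ := h1
    obtain ⟨P2, hP2, e2⟩ := h2
    refine ⟨{(p : P) * x - P1, x ^ p - P2}, ?_, fun D _ _ f hf => Or.inr ⟨p, hp, ⟨P1, hP1, ?_⟩, ⟨P2, hP2, ?_⟩⟩⟩
    · simp only [Finset.mem_insert, Finset.mem_singleton, forall_eq_or_imp, forall_eq, map_sub, map_pow,
        map_mul, map_natCast]
      exact ⟨sub_eq_zero.2 e1.symm, sub_eq_zero.2 e2.symm⟩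
    · have e := sub_eq_zero.1 ((map_sub f _ _).symm.trans (hf ((p : P) * x - P1) (by simp)))
      rw [map_mul, map_natCast] at e
      exact e.symm
    · exact ((map_pow f x p).symm.trans (sub_eq_zero.1 ((map_sub f _ _).symm.trans (hf _ (by simp))))).symm

end GrothLib.UHTower
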