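import Groth.Agent.Lib.UHTower.Tower
import Mathlib.CategoryTheory.Comma.Over.Basic
import Mathlib.CategoryTheory.Limits.Cones
import Mathlib.FieldTheory.IsAlgClosed.AlgebraicClosure
import Mathlib.RingTheory.Algebraic.Integral
import Mathlib.RingTheory.AdjoinRoot

/-!
# Subalgebras, colimits and elementary examples of universal homeomorphisms
-/

set_option autoImplicit false

universe u

open CategoryTheory

namespace GrothLib.UHTower

section Sub

variable {A B : Type u} [CommRing A] [CommRing B] [Algebra A B] (S : Subalgebra A B)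

theorem isIntegral_restrict (h : (algebraMap A B).IsIntegral) : (algebraMap A S).IsIntegral := fun x =>
  (isIntegral_algHom_iff S.val Subtype.val_injective).1 (h (x : B))

theorem radic_restrict (hint : (algebraMap A B).IsIntegral) (h : Radic (algebraMap A B)) :
    Radic (algebraMap A S) :=
  radic_of_pires (h.injComap.restrict hint) (h.pires.restrict hint)

theorem uh_restrict (h : UH (algebraMap A B)) : UH (algebraMap A S) := by
  refine ⟨isIntegral_restrict S h.1, fun p => ?_, radic_restrict S h.1 h.2.2⟩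
  obtain ⟨Q, hQ⟩ := h.2.1 p
  exact ⟨PrimeSpectrum.comap (algebraMap S B) Q, by rw [← hQ]; rfl⟩

end Sub

theorem surjective_comap_of_field {A B : Type u} [CommRing A] [CommRing B] (φ : A →+* B)
    (h : ∀ (p : Ideal A) [p.IsPrime], ∃ (K : Type u) (_ : Field K) (g : B →+* K), RingHom.ker (g.comp φ) = p) :
    Function.Surjective (PrimeSpectrum.comap φ) := by
  rintro ⟨p, hp⟩
  obtain ⟨K, _, g, hg⟩ := h p
  exact ⟨⟨RingHom.ker g, RingHom.ker_isPrime g⟩, PrimeSpectrum.ext hg⟩

section Adjoin

open Polynomial

variable {A : Type u} [CommRing A] (I : Ideal A[X])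

theorem hasTowers_single {G : Subalgebra A (A[X] ⧸ I) → (A[X] ⧸ I) → Prop}
    (h : G (Algebra.adjoin A ∅) (Ideal.Quotient.mk I X)) : HasTowers G := by
  intro E
  refine ⟨[Ideal.Quotient.mk I X], ?_, ?_⟩
  · intro b _
    have htop : Algebra.adjoin A {b : A[X] ⧸ I | b ∈ [Ideal.Quotient.mk I X]} = ⊤ := by
      rw [show {b : A[X] ⧸ I | b ∈ [Ideal.Quotient.mk I X]} = (Ideal.Quotient.mkₐ A I) '' {X} by
        ext; simp, ← AlgHom.map_adjoin, Polynomial.adjoin_X, Algebra.map_top,
        (Ideal.Quotient.mkₐ A I).range_eq_top.2 Ideal.Quotient.mk_surjective]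
    rw [htop]
    trivial
  · rintro ⟨i, hi⟩
    have : i = 0 := by simpa using hi
    subst this
    have e : prefixSet [Ideal.Quotient.mk I X] ⟨0, hi⟩ = (∅ : Set (A[X] ⧸ I)) :=
      Set.eq_empty_iff_forall_notMem.2 fun b ⟨j, hj, _⟩ => Nat.not_lt_zero _ hj
    rw [e]
    simpa using h

theorem exists_hom_of_root {K : Type u} [Field K] [Algebra A K] (p : Ideal A)
    (hK : RingHom.ker (algebraMap A K) = p) (r : K) (hr : ∀ f ∈ I, aeval r f = 0) :
    ∃ g : A[X] ⧸ I →+* K, RingHom.ker (g.comp (algebraMap A (A[X] ⧸ I))) = p :=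
  ⟨(Ideal.Quotient.liftₐ I (aeval r) hr).toRingHom, by
    rw [← hK]
    congr 1
    exact (Ideal.Quotient.liftₐ I (aeval r) hr).comp_algebraMap⟩

end Adjoin

section Colimit

variable {A : CommRingCat.{u}} {J : Type u} [SmallCategory J] {F : J ⥤ Under A} {c : Limits.Cocone F}

theorem cocone_w (j : J) (a : A) : (c.ι.app j).right.hom ((F.obj j).hom.hom a) = c.pt.hom.hom a :=
  congrArg (fun m => m.hom a) (Under.w (c.ι.app j))

/-- The images generate the colimit. -/
theorem mem_of_images (hc : Limits.IsColimit c) (S : Subring c.pt.right)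
    (hA : ∀ a, c.pt.hom.hom a ∈ S) (hJ : ∀ j x, (c.ι.app j).right.hom x ∈ S) (z : c.pt.right) : z ∈ S := by
  let T : Under A := Under.mk (CommRingCat.ofHom (c.pt.hom.hom.codRestrict S hA) : A ⟶ CommRingCat.of S)
  let s : Limits.Cocone F :=
    { pt := T
      ι :=
        { app := fun j => Under.homMk (CommRingCat.ofHom ((c.ι.app j).right.hom.codRestrict S (hJ j)))
            (by ext a; exact Subtype.ext (cocone_w j a))
          naturality := fun j k f => by
            ext x
            exact Subtype.ext (congrArg (fun m => m.right.hom x) (c.w f)) } }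
  let incl : T ⟶ c.pt := Under.homMk (CommRingCat.ofHom S.subtype) (by ext a; rfl)
  have h : hc.desc s ≫ incl = 𝟙 c.pt := hc.hom_ext fun j => by
    rw [hc.fac_assoc, Category.comp_id]
    ext x
    rfl
  have := congrArg (fun m => m.right.hom z) h
  change S.subtype ((hc.desc s).right.hom z) = z at this
  exact this ▸ ((hc.desc s).right.hom z).2

theorem isIntegral_colimit (hc : Limits.IsColimit c) (h : ∀ j, (F.obj j).hom.hom.IsIntegral) :
    c.pt.hom.hom.IsIntegral := by
  intro z
  let _ : Algebra A c.pt.right := c.pt.hom.hom.toAlgebra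
  refine mem_of_images hc (integralClosure A c.pt.right).toSubring (fun a => isIntegral_algebraMap)
    (fun j x => ?_) z
  obtain ⟨f, hf, hfx⟩ := h j x
  refine ⟨f, hf, ?_⟩
  have e : (c.ι.app j).right.hom.comp (F.obj j).hom.hom = algebraMap A c.pt.right :=
    RingHom.ext fun a => cocone_w j a
  rw [← e, ← Polynomial.hom_eval₂, hfx, map_zero]

theorem radic_colimit (hc : Limits.IsColimit c) (h : ∀ j, Radic (F.obj j).hom.hom) :
    Radic c.pt.hom.hom := by
  intro K _ f g hfg
  refine RingHom.ext fun z => ?_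
  refine mem_of_images hc (RingHom.eqLocus f g) (fun a => RingHom.congr_fun hfg a) (fun j x => ?_) z
  refine RingHom.congr_fun (h j K (f.comp (c.ι.app j).right.hom) (g.comp (c.ι.app j).right.hom) ?_) x
  exact RingHom.ext fun a => (congrArg f (cocone_w j a)).trans
    ((RingHom.congr_fun hfg a).trans (congrArg g (cocone_w j a)).symm)

theorem trivRes_colimit (hc : Limits.IsColimit c) (h : ∀ j, TrivRes (F.obj j).hom.hom) :
    TrivRes c.pt.hom.hom := by
  intro Q _ b
  let φ := c.pt.hom.hom
  let P : Subring c.pt.right :=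
    { carrier := {b | ∃ s a : A, φ s ∉ Q ∧ φ s * b - φ a ∈ Q}
      one_mem' := ⟨1, 1, by simpa using ‹Q.IsPrime›.one_notMem, by simp⟩
      zero_mem' := ⟨1, 0, by simpa using ‹Q.IsPrime›.one_notMem, by simp⟩
      neg_mem' := by
        rintro x ⟨s, a, hs, ha⟩
        refine ⟨s, -a, hs, ?_⟩
        rw [map_neg, mul_neg, ← neg_sub', Q.neg_mem_iff]
        exact ha
      mul_mem' := by
        rintro x y ⟨s, a, hs, ha⟩ ⟨t, d, ht, hd⟩
        refine ⟨s * t, a * d, by rw [map_mul]; exact fun h' => (‹Q.IsPrime›.mem_or_mem h').elim hs ht, ?_⟩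
        have e : φ (s * t) * (x * y) - φ (a * d) = (φ s * x - φ a) * (φ t * y) + φ a * (φ t * y - φ d) := by
          rw [map_mul, map_mul]; ring
        rw [e]
        exact add_mem (Q.mul_mem_right _ ha) (Q.mul_mem_left _ hd)
      add_mem' := by
        rintro x y ⟨s, a, hs, ha⟩ ⟨t, d, ht, hd⟩
        refine ⟨s * t, a * t + s * d, by rw [map_mul]; exact fun h' => (‹Q.IsPrime›.mem_or_mem h').elim hs ht, ?_⟩
        have e : φ (s * t) * (x + y) - φ (a * t + s * d) = φ t * (φ s * x - φ a) + φ s * (φ t * y - φ d) := by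
          rw [map_mul, map_add, map_mul, map_mul]; ring
        rw [e]
        exact add_mem (Q.mul_mem_left _ ha) (Q.mul_mem_left _ hd) }
  refine mem_of_images hc P (fun a => ⟨1, a, by simpa using ‹Q.IsPrime›.one_notMem, by simp [φ]⟩)
    (fun j x => ?_) b
  obtain ⟨s, a, hs, ha⟩ := h j (Q.comap (c.ι.app j).right.hom) x
  refine ⟨s, a, fun h' => hs ?_, ?_⟩
  · rw [Ideal.mem_comap, cocone_w]; exact h'
  · rw [Ideal.mem_comap, map_sub, map_mul, cocone_w, cocone_w] at ha
    exact ha

theorem surjective_comap_colimit (hc : Limits.IsColimit c) (h : ∀ j, UH (F.obj j).hom.hom) :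
    Function.Surjective (PrimeSpectrum.comap c.pt.hom.hom) := by
  refine surjective_comap_of_field _ fun p _ => ?_
  let L := AlgebraicClosure p.ResidueField
  let φL : A →+* L := (algebraMap p.ResidueField L).comp (algebraMap A p.ResidueField)
  have hex : ∀ j, ∃ g : (F.obj j).right →+* L, g.comp (F.obj j).hom.hom = φL := fun j => by
    obtain ⟨q, hq⟩ := (h j).2.1 ⟨p, inferInstance⟩
    have hq' : q.asIdeal.comap (F.obj j).hom.hom = p := congrArg PrimeSpectrum.asIdeal hq
    let _ : Algebra A (F.obj j).right := (F.obj j).hom.hom.toAlgebra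
    let i : (A ⧸ p) →+* (F.obj j).right ⧸ q.asIdeal :=
      Ideal.quotientMap q.asIdeal (F.obj j).hom.hom hq'.ge
    have hi : Function.Injective i := Ideal.quotientMap_injective' hq'.le
    have hii : i.IsIntegral := RingHom.IsIntegral.tower_top (Ideal.Quotient.mk p) i (by
      rw [Ideal.quotientMap_comp_mk]
      exact (h j).1.trans _ _ (RingHom.isIntegral_of_surjective _ Ideal.Quotient.mk_surjective))
    let _ : Algebra (A ⧸ p) ((F.obj j).right ⧸ q.asIdeal) := i.toAlgebra
    have : FaithfulSMul (A ⧸ p) ((F.obj j).right ⧸ q.asIdeal) :=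
      (faithfulSMul_iff_algebraMap_injective _ _).2 hi
    have : Algebra.IsIntegral (A ⧸ p) ((F.obj j).right ⧸ q.asIdeal) := ⟨hii⟩
    have : Algebra.IsAlgebraic (A ⧸ p) ((F.obj j).right ⧸ q.asIdeal) := Algebra.IsIntegral.isAlgebraic
    have : Module.IsTorsionFree (A ⧸ p) ((F.obj j).right ⧸ q.asIdeal) := by
      infer_instance
    have : Module.IsTorsionFree (A ⧸ p) L := by
      have : FaithfulSMul (A ⧸ p) L := (faithfulSMul_iff_algebraMap_injective _ _).2 fun x y h => by
        rw [IsScalarTower.algebraMap_apply (A ⧸ p) p.ResidueField L,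
          IsScalarTower.algebraMap_apply (A ⧸ p) p.ResidueField L] at h
        exact IsFractionRing.injective (A ⧸ p) p.ResidueField ((algebraMap p.ResidueField L).injective h)
      infer_instance
    let g : (F.obj j).right ⧸ q.asIdeal →ₐ[A ⧸ p] L := IsAlgClosed.lift
    refine ⟨g.toRingHom.comp (Ideal.Quotient.mk q.asIdeal), RingHom.ext fun a => ?_⟩
    refine (g.commutes (Ideal.Quotient.mk p a)).trans ?_
    rw [IsScalarTower.algebraMap_apply (A ⧸ p) p.ResidueField L]
    rfl
  choose g hg using hex
  let s : Limits.Cocone F :=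
    { pt := Under.mk (CommRingCat.ofHom φL : A ⟶ CommRingCat.of L)
      ι :=
        { app := fun j => Under.homMk (CommRingCat.ofHom (g j)) (by ext a; exact RingHom.congr_fun (hg j) a)
          naturality := fun j k f => by
            ext x
            have := (h j).2.2 L ((g k).comp (F.map f).right.hom) (g j) (RingHom.ext fun a => by
              have e : (F.map f).right.hom ((F.obj j).hom.hom a) = (F.obj k).hom.hom a :=
                congrArg (fun m => m.hom a) (Under.w (F.map f))
              simp only [RingHom.comp_apply, e]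
              exact (RingHom.congr_fun (hg k) a).trans (RingHom.congr_fun (hg j) a).symm)
            exact RingHom.congr_fun this x } }
  refine ⟨L, inferInstance, (hc.desc s).right.hom, ?_⟩
  have e : ((hc.desc s).right.hom).comp c.pt.hom.hom = φL :=
    congrArg CommRingCat.Hom.hom (Under.w (hc.desc s))
  rw [e]
  ext a
  simp [φL, RingHom.mem_ker]

theorem uh_colimit (hc : Limits.IsColimit c) (h : ∀ j, UH (F.obj j).hom.hom) : UH c.pt.hom.hom :=
  ⟨isIntegral_colimit hc fun j => (h j).1, surjective_comap_colimit hc h, radic_colimit hc fun j => (h j).2.2⟩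

end Colimit

end GrothLib.UHTower
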