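import Groth.Agent.Lib.EtaPt.SN
import Groth.Agent.Lib.Frob.Basic
import Mathlib.FieldTheory.PurelyInseparable.Basic
import Mathlib.RingTheory.LocalRing.ResidueField.Ideal
import Mathlib.RingTheory.IntegralClosure.IntegralRestrict

/-!
# Algebraic description of universal homeomorphisms of affine schemes
-/

set_option autoImplicit false

universe u

open CategoryTheory AlgebraicGeometry

namespace GrothLib.UHTower

variable {A B : Type u} [CommRing A] [CommRing B] (φ : A →+* B)

/-- Injective on field valued points. -/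
def Radic : Prop :=
  ∀ (K : Type u) [Field K] (f g : B →+* K), f.comp φ = g.comp φ → f = g

/-- Injective on prime spectra. -/
def InjComap : Prop := Function.Injective (PrimeSpectrum.comap φ)

/-- Trivial residue field extensions. -/
def TrivRes : Prop :=
  ∀ (Q : Ideal B) [Q.IsPrime] (b : B), ∃ s a : A, φ s ∉ Q ∧ φ s * b - φ a ∈ Q

/-- Purely inseparable residue field extensions. -/
def PIRes : Prop :=
  ∀ (Q : Ideal B) [Q.IsPrime] (b : B), ∃ (N : ℕ) (s a : A), φ s ∉ Q ∧ φ s * b ^ N - φ a ∈ Q ∧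
    (N = 1 ∨ ∃ ℓ n : ℕ, ℓ.Prime ∧ N = ℓ ^ n ∧ (ℓ : B) ∈ Q)

/-- The algebraic form of being a universal homeomorphism. -/
def UH : Prop := φ.IsIntegral ∧ Function.Surjective (PrimeSpectrum.comap φ) ∧ Radic φ

variable {φ}

theorem TrivRes.pires (h : TrivRes φ) : PIRes φ := fun Q _ b => by
  obtain ⟨s, a, hs, ha⟩ := h Q b
  exact ⟨1, s, a, hs, by rwa [pow_one], Or.inl rfl⟩

theorem universallyInjective_iff_radic :
    UniversallyInjective (Spec.map (CommRingCat.ofHom φ)) ↔ Radic φ := by
  refine ((tfae_universallyInjective (Spec.map (CommRingCat.ofHom φ))).out 0 1).trans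
    ⟨fun h K inst f g hfg => ?_, fun h K inst f g hfg => ?_⟩
  · have := @h K inst (Spec.map (CommRingCat.ofHom f)) (Spec.map (CommRingCat.ofHom g)) (by
      simp only [← Spec.map_comp, ← CommRingCat.ofHom_comp, hfg])
    exact congrArg CommRingCat.Hom.hom (Spec.map_injective this)
  · obtain ⟨f, rfl⟩ := Spec.map_surjective f
    obtain ⟨g, rfl⟩ := Spec.map_surjective g
    simp only [← Spec.map_comp] at hfg
    have e := congrArg CommRingCat.Hom.hom (Spec.map_injective hfg)
    exact congrArg Spec.map (CommRingCat.hom_ext (@h K inst f.hom g.hom e))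

theorem universallyClosed_iff_isIntegral :
    UniversallyClosed (Spec.map (CommRingCat.ofHom φ)) ↔ φ.IsIntegral := by
  refine ⟨fun h => (IsIntegralHom.SpecMap_iff (φ := CommRingCat.ofHom φ)).1
    (IsIntegralHom.iff_universallyClosed_and_isAffineHom.2 ⟨h, inferInstance⟩), fun h => ?_⟩
  exact (IsIntegralHom.iff_universallyClosed_and_isAffineHom.1
    ((IsIntegralHom.SpecMap_iff (φ := CommRingCat.ofHom φ)).2 h)).1

theorem isUnivHomeo_iff_uh : FlatMor.IsUnivHomeo (Spec.map (CommRingCat.ofHom φ)) ↔ UH φ := by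
  rw [Frob.isUnivHomeo_iff, universallyClosed_iff_isIntegral, universallyInjective_iff_radic, UH]
  refine ⟨fun ⟨h1, h2, h3⟩ => ⟨h1, h3.1, h2⟩, fun ⟨h1, h2, h3⟩ => ⟨h1, h3, ⟨h2⟩⟩⟩

theorem Radic.injComap (h : Radic φ) : InjComap φ :=
  haveI := universallyInjective_iff_radic.2 h
  (Spec.map (CommRingCat.ofHom φ)).injective

theorem exists_div_eq (p : Ideal A) [p.IsPrime] (z : p.ResidueField) :
    ∃ a s : A, s ∉ p ∧ z * algebraMap A p.ResidueField s = algebraMap A p.ResidueField a := by
  obtain ⟨a, s, hs, rfl⟩ := IsFractionRing.div_surjective (A ⧸ p) z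
  obtain ⟨a, rfl⟩ := Ideal.Quotient.mk_surjective a
  obtain ⟨s, rfl⟩ := Ideal.Quotient.mk_surjective s
  have hs' : s ∉ p := fun h => nonZeroDivisors.ne_zero hs (Ideal.Quotient.eq_zero_iff_mem.2 h)
  refine ⟨a, s, hs', ?_⟩
  rw [IsScalarTower.algebraMap_apply A (A ⧸ p) p.ResidueField,
    IsScalarTower.algebraMap_apply A (A ⧸ p) p.ResidueField, Ideal.Quotient.algebraMap_eq]
  exact div_mul_cancel₀ _ ((map_ne_zero_iff _ (IsFractionRing.injective _ _)).2
    fun h => hs' (Ideal.Quotient.eq_zero_iff_mem.1 h))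

theorem residueField_map_eq_iff (Q : Ideal B) [Q.IsPrime] (z : (Q.comap φ).ResidueField) (b : B) :
    Ideal.ResidueField.map (Q.comap φ) Q φ rfl z = algebraMap B Q.ResidueField b ↔
      ∀ a s : A, s ∉ Q.comap φ →
        z * algebraMap A (Q.comap φ).ResidueField s = algebraMap A (Q.comap φ).ResidueField a →
          φ s * b - φ a ∈ Q := by
  constructor
  · intro h a s _ he
    have e := congrArg (Ideal.ResidueField.map (Q.comap φ) Q φ rfl) he
    rw [map_mul, h, Ideal.ResidueField.map_algebraMap, Ideal.ResidueField.map_algebraMap] at e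
    rw [← Ideal.algebraMap_residueField_eq_zero, map_sub, map_mul, mul_comm, e, sub_self]
  · intro h
    obtain ⟨a, s, hs, he⟩ := exists_div_eq (Q.comap φ) z
    have e := congrArg (Ideal.ResidueField.map (Q.comap φ) Q φ rfl) he
    rw [map_mul, Ideal.ResidueField.map_algebraMap, Ideal.ResidueField.map_algebraMap] at e
    have h' := h a s hs he
    rw [← Ideal.algebraMap_residueField_eq_zero, map_sub, map_mul, sub_eq_zero] at h'
    have hs' : algebraMap B Q.ResidueField (φ s) ≠ 0 := fun h0 =>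
      hs (show φ s ∈ Q from Ideal.algebraMap_residueField_eq_zero.1 h0)
    exact mul_right_cancel₀ hs' (e.trans (h'.symm.trans (mul_comm _ _)))

theorem Radic.pires (h : Radic φ) : PIRes φ := by
  intro Q _ b
  let ψ := Ideal.ResidueField.map (Q.comap φ) Q φ rfl
  let _ : Algebra (Q.comap φ).ResidueField Q.ResidueField := ψ.toAlgebra
  have : IsPurelyInseparable (Q.comap φ).ResidueField Q.ResidueField := by
    rw [isPurelyInseparable_iff_subsingleton_emb, subsingleton_iff]
    intro σ₁ σ₂
    apply AlgHom.coe_ringHom_injective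
    refine Ideal.ResidueField.ringHom_ext ?_
    refine h _ _ _ (RingHom.ext fun a => ?_)
    change σ₁ (algebraMap B Q.ResidueField (φ a)) = σ₂ (algebraMap B Q.ResidueField (φ a))
    rw [← Ideal.ResidueField.map_algebraMap (Q.comap φ) Q φ rfl a]
    exact (σ₁.commutes _).trans (σ₂.commutes _).symm
  obtain ⟨e, he⟩ := ExpChar.exists (Q.comap φ).ResidueField
  obtain ⟨n, z, hz⟩ := IsPurelyInseparable.pow_mem (Q.comap φ).ResidueField e (algebraMap B Q.ResidueField b)
  rw [← map_pow] at hz
  obtain ⟨a, s, hs, hdiv⟩ := exists_div_eq (Q.comap φ) z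
  refine ⟨e ^ n, s, a, hs, (residueField_map_eq_iff Q z _).1 hz a s hs hdiv, ?_⟩
  cases he with
  | zero => exact Or.inl (one_pow _)
  | prime hp =>
    refine Or.inr ⟨e, n, hp, rfl, ?_⟩
    have h0 : algebraMap A (Q.comap φ).ResidueField (e : A) = 0 := by
      rw [map_natCast]; exact CharP.cast_eq_zero _ _
    have := Ideal.algebraMap_residueField_eq_zero.1 h0
    rwa [Ideal.mem_comap, map_natCast] at this

theorem radic_of_pires (hinj : InjComap φ) (h : PIRes φ) : Radic φ := by
  intro K _ f g hfg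
  have hker : RingHom.ker f = RingHom.ker g := by
    have : (⟨RingHom.ker f, RingHom.ker_isPrime f⟩ : PrimeSpectrum B) = ⟨RingHom.ker g, RingHom.ker_isPrime g⟩ :=
      hinj (PrimeSpectrum.ext (by
        change (RingHom.ker f).comap φ = (RingHom.ker g).comap φ
        rw [RingHom.comap_ker, RingHom.comap_ker, hfg]))
    exact congrArg PrimeSpectrum.asIdeal this
  refine RingHom.ext fun b => ?_
  have : (RingHom.ker f).IsPrime := RingHom.ker_isPrime f
  obtain ⟨N, s, a, hs, ha, hN⟩ := h (RingHom.ker f) b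
  have hsa : ∀ a, f (φ a) = g (φ a) := fun a => RingHom.congr_fun hfg a
  have e1 : f (φ s) * f b ^ N = f (φ a) := by
    rw [← map_pow, ← map_mul]; rwa [RingHom.mem_ker, map_sub, sub_eq_zero] at ha
  have e2 : g (φ s) * g b ^ N = g (φ a) := by
    rw [hker] at ha; rw [← map_pow, ← map_mul]; rwa [RingHom.mem_ker, map_sub, sub_eq_zero] at ha
  rw [← hsa, ← hsa, ← e1] at e2
  have e3 : g b ^ N = f b ^ N := mul_left_cancel₀ hs e2
  rcases hN with rfl | ⟨ℓ, n, hℓ, rfl, hℓQ⟩
  · simpa using e3.symm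
  · have : Fact ℓ.Prime := ⟨hℓ⟩
    have : CharP K ℓ := (CharP.charP_iff_prime_eq_zero hℓ).2 (by
      rw [RingHom.mem_ker, map_natCast] at hℓQ; exact hℓQ)
    have e4 : (f b - g b) ^ ℓ ^ n = 0 := by rw [sub_pow_char_pow, e3, sub_self]
    exact sub_eq_zero.1 ((pow_eq_zero_iff (pow_ne_zero n hℓ.ne_zero)).1 e4)

theorem surjective_residueFieldMap_iff :
    (∀ x : Spec (CommRingCat.of B), Function.Surjective ((Spec.map (CommRingCat.ofHom φ)).residueFieldMap x)) ↔
      TrivRes φ := by
  have key : ∀ Q : PrimeSpectrum B,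
      Function.Surjective ((Spec.map (CommRingCat.ofHom φ)).residueFieldMap Q) ↔
        Function.Surjective (Ideal.ResidueField.map (Q.asIdeal.comap φ) Q.asIdeal φ rfl) := fun Q => by
    have h := congrArg (fun m => (m.hom : _ → _)) (EtaPt.residueFieldMap_spec φ Q)
    simp only [CommRingCat.hom_comp, RingHom.coe_comp, CommRingCat.hom_ofHom] at h
    have hi := ConcreteCategory.bijective_of_isIso (Scheme.Spec.residueFieldIso (.of A) (PrimeSpectrum.comap φ Q)).inv
    have hj := ConcreteCategory.bijective_of_isIso (Scheme.Spec.residueFieldIso (.of B) Q).inv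
    exact (Function.Surjective.of_comp_iff _ hi.2).symm.trans
      ((iff_of_eq (congrArg Function.Surjective h)).trans (Function.Surjective.of_comp_iff' hj _))
  constructor
  · intro h Q hQ b
    obtain ⟨z, hz⟩ := (key ⟨Q, hQ⟩).1 (h _) (algebraMap B Q.ResidueField b)
    obtain ⟨a, s, hs, he⟩ := exists_div_eq (Q.comap φ) z
    exact ⟨s, a, hs, (residueField_map_eq_iff Q z b).1 hz a s hs he⟩
  · intro h Q
    refine (key Q).2 fun y => ?_
    obtain ⟨b, t, ht, hbt⟩ := exists_div_eq Q.asIdeal y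
    have hmem : ∀ b : B, algebraMap B Q.asIdeal.ResidueField b ∈
        (Ideal.ResidueField.map (Q.asIdeal.comap φ) Q.asIdeal φ rfl).fieldRange := fun b => by
      obtain ⟨s, a, hs, ha⟩ := h Q.asIdeal b
      refine RingHom.mem_fieldRange.2 ⟨algebraMap A _ a / algebraMap A _ s, ?_⟩
      rw [map_div₀, Ideal.ResidueField.map_algebraMap, Ideal.ResidueField.map_algebraMap]
      have hs' : algebraMap B Q.asIdeal.ResidueField (φ s) ≠ 0 := fun h0 =>
        hs (Ideal.algebraMap_residueField_eq_zero.1 h0)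
      rw [div_eq_iff hs']
      rw [← Ideal.algebraMap_residueField_eq_zero, map_sub, map_mul, sub_eq_zero] at ha
      rw [← ha, mul_comm]
    have ht' : algebraMap B Q.asIdeal.ResidueField t ≠ 0 := fun h0 =>
      ht (Ideal.algebraMap_residueField_eq_zero.1 h0)
    exact RingHom.mem_fieldRange.1 (eq_div_iff ht' |>.2 hbt ▸ div_mem (hmem b) (hmem t))

section Subalg

variable {A B : Type u} [CommRing A] [CommRing B] [Algebra A B] (S : Subalgebra A B)

theorem InjComap.subalgebra (h : InjComap (algebraMap A B)) : InjComap (algebraMap S B) := by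
  intro Q Q' e
  have hcomp : (algebraMap S B).comp (algebraMap A S) = algebraMap A B := rfl
  refine h (PrimeSpectrum.ext ?_)
  rw [← hcomp]
  change Q.asIdeal.comap ((algebraMap S B).comp (algebraMap A S)) = Q'.asIdeal.comap _
  rw [← Ideal.comap_comap, ← Ideal.comap_comap]
  exact congrArg (fun P : PrimeSpectrum S => P.asIdeal.comap (algebraMap A S)) e

theorem TrivRes.subalgebra (h : TrivRes (algebraMap A B)) : TrivRes (algebraMap S B) := fun Q _ b => by
  obtain ⟨s, a, hs, ha⟩ := h Q b
  exact ⟨algebraMap A S s, algebraMap A S a, hs, ha⟩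

theorem PIRes.subalgebra (h : PIRes (algebraMap A B)) : PIRes (algebraMap S B) := fun Q _ b => by
  obtain ⟨N, s, a, hs, ha, hN⟩ := h Q b
  exact ⟨N, algebraMap A S s, algebraMap A S a, hs, ha, hN⟩

variable {S} (hint : (algebraMap A B).IsIntegral)
include hint

theorem exists_lift_prime (q : Ideal S) [q.IsPrime] :
    ∃ Q : Ideal B, Q.IsPrime ∧ Q.comap (algebraMap S B) = q := by
  have : Algebra.IsIntegral A B := ⟨hint⟩
  have : Algebra.IsIntegral S B := Algebra.IsIntegral.tower_top (R := A)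
  obtain ⟨Q, -, hQ, e⟩ := Ideal.exists_ideal_over_prime_of_isIntegral q (⊥ : Ideal B) (by
    rw [← RingHom.ker_eq_comap_bot, (RingHom.injective_iff_ker_eq_bot _).1 Subtype.val_injective]
    exact bot_le)
  exact ⟨Q, hQ, e⟩

theorem InjComap.restrict (h : InjComap (algebraMap A B)) : InjComap (algebraMap A S) := by
  intro q q' e
  obtain ⟨Q, hQ, hq⟩ := exists_lift_prime hint q.asIdeal
  obtain ⟨Q', hQ', hq'⟩ := exists_lift_prime hint q'.asIdeal
  have : (⟨Q, hQ⟩ : PrimeSpectrum B) = ⟨Q', hQ'⟩ := h (PrimeSpectrum.ext (by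
    change Q.comap ((algebraMap S B).comp (algebraMap A S)) = Q'.comap ((algebraMap S B).comp (algebraMap A S))
    rw [← Ideal.comap_comap, ← Ideal.comap_comap, hq, hq']
    exact congrArg PrimeSpectrum.asIdeal e))
  refine PrimeSpectrum.ext ?_
  have e' : Q = Q' := congrArg PrimeSpectrum.asIdeal this
  rw [← hq, ← hq', e']

theorem TrivRes.restrict (h : TrivRes (algebraMap A B)) : TrivRes (algebraMap A S) := fun q _ b => by
  obtain ⟨Q, hQ, rfl⟩ := exists_lift_prime hint q
  obtain ⟨s, a, hs, ha⟩ := h Q b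
  exact ⟨s, a, hs, ha⟩

theorem PIRes.restrict (h : PIRes (algebraMap A B)) : PIRes (algebraMap A S) := fun q _ b => by
  obtain ⟨Q, hQ, rfl⟩ := exists_lift_prime hint q
  obtain ⟨N, s, a, hs, ha, hN⟩ := h Q b
  refine ⟨N, s, a, hs, ha, hN.imp_right fun ⟨ℓ, n, h1, h2, h3⟩ => ⟨ℓ, n, h1, h2, ?_⟩⟩
  rwa [Ideal.mem_comap, map_natCast]

end Subalg

end GrothLib.UHTower
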