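import Groth.Agent.Lib.UHTower.Inherit
import Mathlib.CategoryTheory.Filtered.Basic
import Mathlib.CategoryTheory.Category.Preorder
import Mathlib.Algebra.Category.Ring.Basic
import Mathlib.RingTheory.FinitePresentation
import Mathlib.Algebra.MvPolynomial.Rename

/-!
# Universal homeomorphisms as filtered colimits of finitely presented ones
-/

set_option autoImplicit false

universe u

open CategoryTheory

namespace GrothLib.UHTower

variable (A : Type u) [CommRing A] (B : Type u) [CommRing B] [Algebra A B]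
variable (G : ∀ (D : Type u) [CommRing D] [Algebra A D], Subalgebra A D → D → Prop)

/-- Evaluation of the variables indexed by a finite subset of `B`. -/
noncomputable def ev (E : Finset B) : MvPolynomial E A →ₐ[A] B := MvPolynomial.aeval fun e : E => (e : B)

/-- A finitely presented `A`-algebra over `B` which is generated by a tower of steps. -/
structure Stage : Type u where
  E : Finset B
  I : Ideal (MvPolynomial E A)
  fg : I.FG
  le : I ≤ RingHom.ker (ev A B E)
  good : HasTowers (G (MvPolynomial E A ⧸ I))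

/-- Renaming along an inclusion of index sets. -/
noncomputable def ren {E E' : Finset B} (h : E ⊆ E') : MvPolynomial E A →ₐ[A] MvPolynomial E' A :=
  MvPolynomial.rename fun e : E => (⟨(e : B), h e.2⟩ : E')

theorem ev_ren {E E' : Finset B} (h : E ⊆ E') : (ev A B E').comp (ren A B h) = ev A B E :=
  MvPolynomial.algHom_ext fun e => by simp [ev, ren]

theorem ren_ren {E E' E'' : Finset B} (h : E ⊆ E') (h' : E' ⊆ E'') :
    (ren A B h').comp (ren A B h) = ren A B (h.trans h') :=
  MvPolynomial.algHom_ext fun e => by simp [ren]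

variable {A B G}

instance : Preorder (Stage A B G) where
  le d d' := ∃ h : d.E ⊆ d'.E, d.I ≤ d'.I.comap (ren A B h)
  le_refl d := ⟨subset_rfl, fun x hx => by
    rw [Ideal.mem_comap]
    have : ren A B (subset_rfl : d.E ⊆ d.E) = AlgHom.id A _ :=
      MvPolynomial.algHom_ext fun e => by simp [ren]
    rw [this]; exact hx⟩
  le_trans d d' d'' := fun ⟨h, hI⟩ ⟨h', hI'⟩ => ⟨h.trans h', fun x hx => by
    rw [Ideal.mem_comap, ← ren_ren A B h h']
    exact hI' (hI hx)⟩

/-- The algebra of a stage. -/
abbrev Stage.Alg (d : Stage A B G) : Type u := MvPolynomial d.E A ⧸ d.I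

/-- The map of a stage to `B`. -/
noncomputable def Stage.proj (d : Stage A B G) : d.Alg →ₐ[A] B :=
  Ideal.Quotient.liftₐ d.I (ev A B d.E) fun _ hx => d.le hx

/-- A variable of a stage. -/
noncomputable def Stage.var (d : Stage A B G) (b : B) (h : b ∈ d.E) : d.Alg :=
  Ideal.Quotient.mk d.I (MvPolynomial.X ⟨b, h⟩)

theorem Stage.proj_var (d : Stage A B G) (b : B) (h : b ∈ d.E) : d.proj (d.var b h) = b := by
  simp [Stage.proj, Stage.var, ev]

/-- Transition maps. -/
noncomputable def Stage.tr {d d' : Stage A B G} (h : d ≤ d') : d.Alg →ₐ[A] d'.Alg :=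
  Ideal.Quotient.liftₐ d.I ((Ideal.Quotient.mkₐ A d'.I).comp (ren A B h.choose))
    fun x hx => Ideal.Quotient.eq_zero_iff_mem.2 (h.choose_spec hx)

theorem Stage.tr_var {d d' : Stage A B G} (h : d ≤ d') (b : B) (hb : b ∈ d.E) :
    Stage.tr h (d.var b hb) = d'.var b (h.choose hb) := by
  simp [Stage.tr, Stage.var, ren]

theorem Stage.tr_mk {d d' : Stage A B G} (h : d ≤ d') (h' : d.E ⊆ d'.E) (x : MvPolynomial d.E A) :
    Stage.tr h (Ideal.Quotient.mk d.I x) = Ideal.Quotient.mk d'.I (ren A B h' x) := by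
  simp [Stage.tr]

theorem Stage.algHom_ext {D : Type u} [CommRing D] [Algebra A D] (d : Stage A B G) {f g : d.Alg →ₐ[A] D}
    (h : ∀ b hb, f (d.var b hb) = g (d.var b hb)) : f = g :=
  Ideal.Quotient.algHom_ext _ (MvPolynomial.algHom_ext fun e => h e.1 e.2)

theorem Stage.proj_tr {d d' : Stage A B G} (h : d ≤ d') : d'.proj.comp (Stage.tr h) = d.proj :=
  d.algHom_ext fun b hb => by
    rw [AlgHom.comp_apply, Stage.tr_var, Stage.proj_var, Stage.proj_var]

theorem Stage.surjective_comap (d : Stage A B G) (h : Function.Surjective (PrimeSpectrum.comap (algebraMap A B))) :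
    Function.Surjective (PrimeSpectrum.comap (algebraMap A d.Alg)) := fun p => by
  obtain ⟨Q, hQ⟩ := h p
  refine ⟨PrimeSpectrum.comap d.proj.toRingHom Q, ?_⟩
  rw [← hQ]
  change PrimeSpectrum.comap (algebraMap A d.Alg) (PrimeSpectrum.comap d.proj.toRingHom Q) = _
  rw [← PrimeSpectrum.comap_comp_apply]
  exact congrArg (fun φ => PrimeSpectrum.comap φ Q) d.proj.comp_algebraMap

/-- Steps can be lifted to finitely many relations. -/
def Liftable (A : Type u) [CommRing A] (B : Type u) [CommRing B] [Algebra A B]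
    (G : ∀ (D : Type u) [CommRing D] [Algebra A D], Subalgebra A D → D → Prop) : Prop :=
  ∀ (P : Type u) [CommRing P] [Algebra A P] (π : P →ₐ[A] B) (S : Subalgebra A P) (x : P),
    G B (S.map π) (π x) → ∃ rels : Finset P, (∀ r ∈ rels, π r = 0) ∧
      ∀ (D : Type u) [CommRing D] [Algebra A D] (f : P →ₐ[A] D), (∀ r ∈ rels, f r = 0) →
        G D (S.map f) (f x)

theorem exists_stage (hL : Liftable A B G) (hB : HasTowers (G B)) (E : Finset B)
    (I : Ideal (MvPolynomial E A)) (hI : I.FG) (hle : I ≤ RingHom.ker (ev A B E)) :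
    ∃ (d : Stage A B G) (h : E ⊆ d.E), I ≤ d.I.comap (ren A B h) := by
  classical
  obtain ⟨l, hEl, hl⟩ := hB E
  let E' : Finset B := E ∪ l.toFinset
  let v : Fin l.length → E' := fun i =>
    ⟨l.get i, Finset.mem_union_right _ (List.mem_toFinset.2 (l.get_mem i))⟩
  let π := ev A B E'
  have hπv : ∀ i, π (MvPolynomial.X (v i)) = l.get i := fun i => by simp [π, ev, v]
  let S : Fin l.length → Subalgebra A (MvPolynomial E' A) := fun i =>
    Algebra.adjoin A {x | ∃ j, j < i ∧ x = MvPolynomial.X (v j)}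
  have hS : ∀ i, (S i).map π = Algebra.adjoin A (prefixSet l i) := fun i => by
    rw [AlgHom.map_adjoin]
    congr 1
    ext b
    constructor
    · rintro ⟨_, ⟨j, hj, rfl⟩, rfl⟩; exact ⟨j, hj, hπv j⟩
    · rintro ⟨j, hj, rfl⟩; exact ⟨_, ⟨j, hj, rfl⟩, hπv j⟩
  have hsteps : ∀ i, ∃ rels : Finset (MvPolynomial E' A), (∀ r ∈ rels, π r = 0) ∧
      ∀ (D : Type u) [CommRing D] [Algebra A D] (f : MvPolynomial E' A →ₐ[A] D), (∀ r ∈ rels, f r = 0) →
        G D ((S i).map f) (f (MvPolynomial.X (v i))) := fun i =>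
    hL _ π (S i) _ (by rw [hS, hπv]; exact hl i)
  choose rels hrels0 hrels using hsteps
  have hgen : ∀ e : E', ∃ P ∈ Algebra.adjoin A (Set.range fun i => (MvPolynomial.X (v i) : MvPolynomial E' A)),
      π P = (e : B) := fun e => by
    have hsub : (↑E' : Set B) ⊆ Algebra.adjoin A {b : B | b ∈ l} := by
      intro b hb
      rcases Finset.mem_union.1 hb with h | h
      · exact hEl h
      · exact Algebra.subset_adjoin (List.mem_toFinset.1 h)
    have h : (e : B) ∈ (Algebra.adjoin A (Set.range fun i => (MvPolynomial.X (v i) : MvPolynomial E' A))).map π := by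
      rw [AlgHom.map_adjoin]
      refine Algebra.adjoin_mono ?_ (hsub e.2)
      intro b hb
      obtain ⟨i, rfl⟩ := List.get_of_mem hb
      exact ⟨_, ⟨i, rfl⟩, hπv i⟩
    exact h
  choose P hP hPe using hgen
  have hsub : E ⊆ E' := Finset.subset_union_left
  let I' : Ideal (MvPolynomial E' A) := I.map (ren A B hsub) ⊔
    Ideal.span ↑((Finset.univ.biUnion rels) ∪ Finset.univ.image fun e => MvPolynomial.X e - P e)
  have hI'le : I' ≤ RingHom.ker π := by
    refine sup_le (Ideal.map_le_iff_le_comap.2 fun x hx => ?_) (Ideal.span_le.2 ?_)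
    · rw [Ideal.mem_comap, RingHom.mem_ker]
      exact (AlgHom.congr_fun (ev_ren A B hsub) x).trans (hle hx)
    · intro x hx
      rcases Finset.mem_union.1 hx with h | h
      · obtain ⟨i, -, hi⟩ := Finset.mem_biUnion.1 h
        exact hrels0 i x hi
      · obtain ⟨e, -, rfl⟩ := Finset.mem_image.1 h
        rw [SetLike.mem_coe, RingHom.mem_ker, map_sub, hPe]
        simp [π, ev]
  let f := Ideal.Quotient.mkₐ A I'
  have hrel : ∀ r ∈ (Finset.univ.biUnion rels) ∪ Finset.univ.image (fun e => MvPolynomial.X e - P e), f r = 0 :=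
    fun r hr => Ideal.Quotient.eq_zero_iff_mem.2 (Ideal.mem_sup_right (Ideal.subset_span hr))
  let lD : List (MvPolynomial E' A ⧸ I') := List.ofFn fun i => f (MvPolynomial.X (v i))
  have hset : {b | b ∈ lD} = f '' (Set.range fun i => (MvPolynomial.X (v i) : MvPolynomial E' A)) := by
    ext b
    simp [lD, List.mem_ofFn]
  have htop : Algebra.adjoin A {b | b ∈ lD} = ⊤ := by
    rw [hset, ← AlgHom.map_adjoin, eq_top_iff, ← f.range_eq_top.2 Ideal.Quotient.mk_surjective,
      ← Algebra.map_top, ← MvPolynomial.adjoin_range_X, AlgHom.map_adjoin, Algebra.adjoin_le_iff]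
    rintro _ ⟨_, ⟨e, rfl⟩, rfl⟩
    exact ⟨P e, hP e, (sub_eq_zero.1 ((map_sub f _ _).symm.trans
      (hrel _ (Finset.mem_union_right _ (Finset.mem_image_of_mem _ (Finset.mem_univ e)))))).symm⟩
  have hlen : lD.length = l.length := List.length_ofFn
  have hgood : HasTowers (G (MvPolynomial E' A ⧸ I')) := fun F => ⟨lD, fun b _ => htop ▸ Algebra.mem_top, by
    rintro ⟨i, hi⟩
    have hi' : i < l.length := hlen ▸ hi
    have e1 : lD.get ⟨i, hi⟩ = f (MvPolynomial.X (v ⟨i, hi'⟩)) := by simp [lD]
    have e2 : Algebra.adjoin A (prefixSet lD ⟨i, hi⟩) = (S ⟨i, hi'⟩).map f := by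
      rw [AlgHom.map_adjoin]
      congr 1
      ext b
      constructor
      · rintro ⟨⟨j, hj⟩, hji, rfl⟩
        exact ⟨_, ⟨⟨j, hlen ▸ hj⟩, hji, rfl⟩, by simp [lD]⟩
      · rintro ⟨_, ⟨⟨j, hj⟩, hji, rfl⟩, rfl⟩
        exact ⟨⟨j, hlen.symm ▸ hj⟩, hji, by simp [lD]⟩
    rw [e1, e2]
    exact hrels _ _ f fun r hr => hrel r
      (Finset.mem_union_left _ (Finset.mem_biUnion.2 ⟨_, Finset.mem_univ _, hr⟩))⟩
  exact ⟨⟨E', I', Submodule.FG.sup (Ideal.FG.map hI (ren A B hsub).toRingHom) ⟨_, rfl⟩, hI'le, hgood⟩, hsub,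
    Ideal.map_le_iff_le_comap.1 le_sup_left⟩

/-- The diagram of stages. -/
noncomputable def diagram : Stage A B G ⥤ Under (CommRingCat.of A) where
  obj d := Under.mk (CommRingCat.ofHom (algebraMap A d.Alg))
  map f := Under.homMk (CommRingCat.ofHom (Stage.tr (leOfHom f)).toRingHom) (by
    ext a; exact (Stage.tr (leOfHom f)).commutes a)
  map_id d := by
    ext x
    exact AlgHom.congr_fun (d.algHom_ext (f := Stage.tr (leOfHom (𝟙 d))) (g := AlgHom.id A _)
      fun b hb => by rw [Stage.tr_var]; rfl) x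
  map_comp {d d' d''} f g := by
    ext x
    exact AlgHom.congr_fun (d.algHom_ext (f := Stage.tr (leOfHom (f ≫ g)))
      (g := (Stage.tr (leOfHom g)).comp (Stage.tr (leOfHom f)))
      fun b hb => by rw [AlgHom.comp_apply, Stage.tr_var, Stage.tr_var, Stage.tr_var]) x

/-- The cocone with vertex `B`. -/
noncomputable def cocone : Limits.Cocone (diagram (A := A) (B := B) (G := G)) where
  pt := Under.mk (CommRingCat.ofHom (algebraMap A B))
  ι :=
    { app := fun d => Under.homMk (CommRingCat.ofHom d.proj.toRingHom) (by ext a; exact d.proj.commutes a)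
      naturality := fun d d' f => by
        ext x
        exact AlgHom.congr_fun (Stage.proj_tr (leOfHom f)) x }

theorem exists_upper (hL : Liftable A B G) (hB : HasTowers (G B)) (d d' : Stage A B G) :
    ∃ k, d ≤ k ∧ d' ≤ k := by
  classical
  have h1 : d.E ⊆ d.E ∪ d'.E := Finset.subset_union_left
  have h2 : d'.E ⊆ d.E ∪ d'.E := Finset.subset_union_right
  obtain ⟨k, hk, hI⟩ := exists_stage hL hB (d.E ∪ d'.E) (d.I.map (ren A B h1) ⊔ d'.I.map (ren A B h2))
    (Submodule.FG.sup (Ideal.FG.map d.fg (ren A B h1).toRingHom) (Ideal.FG.map d'.fg (ren A B h2).toRingHom)) (sup_le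
      (Ideal.map_le_iff_le_comap.2 fun x hx => by
        rw [Ideal.mem_comap, RingHom.mem_ker]
        exact (AlgHom.congr_fun (ev_ren A B h1) x).trans (d.le hx))
      (Ideal.map_le_iff_le_comap.2 fun x hx => by
        rw [Ideal.mem_comap, RingHom.mem_ker]
        exact (AlgHom.congr_fun (ev_ren A B h2) x).trans (d'.le hx)))
  refine ⟨k, ⟨h1.trans hk, fun x hx => ?_⟩, ⟨h2.trans hk, fun x hx => ?_⟩⟩
  · rw [Ideal.mem_comap, ← ren_ren A B h1 hk]
    exact hI (Ideal.mem_sup_left (Ideal.mem_map_of_mem _ hx))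
  · rw [Ideal.mem_comap, ← ren_ren A B h2 hk]
    exact hI (Ideal.mem_sup_right (Ideal.mem_map_of_mem _ hx))

theorem exists_colimit (hL : Liftable A B G) (hB : HasTowers (G B))
    (hsurj : Function.Surjective (PrimeSpectrum.comap (algebraMap A B)))
    (Pr : ∀ D : CommRingCat.{u}, (CommRingCat.of A ⟶ D) → Prop)
    (hPr : ∀ (D : Type u) [CommRing D] [Algebra A D],
      Function.Surjective (PrimeSpectrum.comap (algebraMap A D)) → HasTowers (G D) →
        Pr (CommRingCat.of D) (CommRingCat.ofHom (algebraMap A D))) :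
    ∃ (J : Type u) (_ : SmallCategory J) (_ : IsFiltered J) (F : J ⥤ Under (CommRingCat.of A))
      (c : Limits.Cocone F) (_ : Limits.IsColimit c),
      (∀ j, (F.obj j).hom.hom.FinitePresentation ∧ Pr (F.obj j).right (F.obj j).hom) ∧
      Nonempty (c.pt ≅ Under.mk (CommRingCat.ofHom (algebraMap A B))) := by
  classical
  have hne : Nonempty (Stage A B G) := by
    obtain ⟨d, -, -⟩ := exists_stage hL hB ∅ ⊥ Submodule.fg_bot bot_le
    exact ⟨d⟩
  have : IsDirectedOrder (Stage A B G) := ⟨exists_upper hL hB⟩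
  have hvar : ∀ S : Finset B, ∀ I : Ideal (MvPolynomial S A), I.FG → I ≤ RingHom.ker (ev A B S) →
      ∃ (d : Stage A B G) (h : S ⊆ d.E), I ≤ d.I.comap (ren A B h) := exists_stage hL hB
  have hmem : ∀ b : B, ∃ d : Stage A B G, b ∈ d.E := fun b => by
    obtain ⟨d, h, -⟩ := hvar {b} ⊥ Submodule.fg_bot bot_le
    exact ⟨d, h (Finset.mem_singleton_self b)⟩
  choose dd hdd using hmem
  refine ⟨Stage A B G, inferInstance, isFiltered_of_directed_le_nonempty _, diagram, cocone,
    ⟨fun s => ?_, ?_, ?_⟩, fun d => ⟨?_, hPr _ (d.surjective_comap hsurj) d.good⟩, ⟨Iso.refl _⟩⟩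
  · -- the descending map
    let σ : B → s.pt.right := fun b => (s.ι.app (dd b)).right.hom ((dd b).var b (hdd b))
    have hσ : ∀ (d : Stage A B G) b hb, (s.ι.app d).right.hom (d.var b hb) = σ b := by
      intro d b hb
      obtain ⟨k, h1, h2⟩ := exists_upper hL hB d (dd b)
      have e1 := congrArg (fun m => m.right.hom (d.var b hb)) (s.w (homOfLE h1))
      have e2 := congrArg (fun m => m.right.hom ((dd b).var b (hdd b))) (s.w (homOfLE h2))
      change (s.ι.app k).right.hom (Stage.tr h1 (d.var b hb)) = _ at e1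
      change (s.ι.app k).right.hom (Stage.tr h2 ((dd b).var b (hdd b))) = _ at e2
      rw [Stage.tr_var] at e1 e2
      exact e1.symm.trans e2
    have hA : ∀ (d : Stage A B G) a, (s.ι.app d).right.hom (algebraMap A d.Alg a) = s.pt.hom.hom a :=
      fun d a => congrArg (fun m => m.hom a) (Under.w (s.ι.app d))
    have hrel : ∀ (S : Finset B) (q : MvPolynomial S A), ev A B S q = 0 →
        MvPolynomial.eval₂ s.pt.hom.hom (fun e : S => σ e) q = 0 := by
      intro S q hq
      obtain ⟨d, h, hI⟩ := hvar S (Ideal.span {q}) ⟨{q}, by simp⟩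
        ((Ideal.span_singleton_le_iff_mem _).2 hq)
      have h0 : Ideal.Quotient.mk d.I (ren A B h q) = 0 :=
        Ideal.Quotient.eq_zero_iff_mem.2 (hI (Ideal.mem_span_singleton_self q))
      have e : MvPolynomial.eval₂Hom s.pt.hom.hom (fun e : S => σ e) =
          ((s.ι.app d).right.hom.comp (Ideal.Quotient.mk d.I)).comp (ren A B h).toRingHom := by
        refine MvPolynomial.ringHom_ext (fun a => ?_) fun e => ?_
        · rw [MvPolynomial.eval₂Hom_C, ← hA d a]
          change _ = (s.ι.app d).right.hom (Ideal.Quotient.mk d.I (ren A B h (MvPolynomial.C a)))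
          rw [← MvPolynomial.algebraMap_eq, AlgHom.commutes]
          rfl
        · rw [MvPolynomial.eval₂Hom_X']
          change _ = (s.ι.app d).right.hom (Ideal.Quotient.mk d.I (ren A B h (MvPolynomial.X e)))
          rw [ren, MvPolynomial.rename_X]
          exact (hσ d e (h e.2)).symm
      have h1 := RingHom.congr_fun e q
      change MvPolynomial.eval₂ _ _ q = (s.ι.app d).right.hom (Ideal.Quotient.mk d.I (ren A B h q)) at h1
      exact h1.trans ((congrArg _ h0).trans (map_zero _))
    let ψ : B →+* s.pt.right :=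
      { toFun := σ
        map_one' := by
          have h := hrel {1} (MvPolynomial.X ⟨1, Finset.mem_singleton_self _⟩ - 1) (by simp [ev])
          simpa [sub_eq_zero] using h
        map_zero' := by
          have h := hrel {0} (MvPolynomial.X ⟨0, Finset.mem_singleton_self _⟩) (by simp [ev])
          simpa using h
        map_mul' := fun x y => by
          have h := hrel {x, y, x * y} (MvPolynomial.X ⟨x * y, by simp⟩ -
            MvPolynomial.X ⟨x, by simp⟩ * MvPolynomial.X ⟨y, by simp⟩) (by simp [ev])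
          simpa [sub_eq_zero] using h
        map_add' := fun x y => by
          have h := hrel {x, y, x + y} (MvPolynomial.X ⟨x + y, by simp⟩ -
            (MvPolynomial.X ⟨x, by simp⟩ + MvPolynomial.X ⟨y, by simp⟩)) (by simp [ev])
          simpa [sub_eq_zero] using h }
    refine Under.homMk (CommRingCat.ofHom ψ) ?_
    ext a
    change σ (algebraMap A B a) = _
    have h := hrel {algebraMap A B a} (MvPolynomial.X ⟨_, Finset.mem_singleton_self _⟩ - MvPolynomial.C a)
      (by simp [ev])
    simpa [sub_eq_zero] using h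
  · intro s d
    apply Under.UnderMorphism.ext
    apply CommRingCat.hom_ext
    refine Ideal.Quotient.ringHom_ext (MvPolynomial.ringHom_ext (fun a => ?_) fun e => ?_)
    · refine Eq.trans ?_ (congrArg (fun m => m.hom a) (Under.w (s.ι.app d))).symm
      exact (congrArg (fun m : CommRingCat.of A ⟶ s.pt.right => m.hom a)
        (Under.w ((cocone.ι.app d) ≫ (?_ : cocone.pt ⟶ s.pt))))
    · obtain ⟨b, hb⟩ := e
      change (s.ι.app (dd (d.proj (d.var b hb)))).right.hom _ = _
      have e : d.proj (d.var b hb) = b := d.proj_var b hb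
      obtain ⟨k, h1, h2⟩ := exists_upper hL hB d (dd b)
      have e1 := congrArg (fun m => m.right.hom (d.var b hb)) (s.w (homOfLE h1))
      have e2 := congrArg (fun m => m.right.hom ((dd b).var b (hdd b))) (s.w (homOfLE h2))
      change (s.ι.app k).right.hom (Stage.tr h1 (d.var b hb)) = _ at e1
      change (s.ι.app k).right.hom (Stage.tr h2 ((dd b).var b (hdd b))) = _ at e2
      rw [Stage.tr_var] at e1 e2
      have key : ∀ c : B, c = b →
          (s.ι.app (dd c)).right.hom ((dd c).var c (hdd c)) = (s.ι.app d).right.hom (d.var b hb) := by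
        rintro c rfl
        exact e2.symm.trans e1
      exact key _ e
  · intro s m hm
    ext b
    have e := congrArg (fun φ => φ.right.hom ((dd b).var b (hdd b))) (hm (dd b))
    have hb : (dd b).proj ((dd b).var b (hdd b)) = b := Stage.proj_var _ _ _
    change m.right.hom b = _
    conv_lhs => rw [← hb]
    exact e
  · exact RingHom.finitePresentation_algebraMap.2 (Algebra.FinitePresentation.quotient d.fg)

end GrothLib.UHTower
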