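import Groth.Agent.Lib.UHTower.Basic
import Mathlib.RingTheory.Ideal.MinimalPrime.Basic
import Mathlib.RingTheory.Finiteness.Ideal
import Mathlib.RingTheory.IntegralClosure.IsIntegralClosure.Basic

/-!
# The basic step in a proper extension inducing a universal homeomorphism

`exists_step_aux`: if `A ⊆ C` is finite, proper, injective on spectra, with purely inseparable
residue extensions, then `C ∖ A` contains `b` with `b², b³ ∈ A`, or with `pb, bᵖ ∈ A`, the former
if residue extensions are trivial.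
-/

set_option autoImplicit false

universe u

namespace GrothLib.UHTower

variable {A C : Type u} [CommRing A] [CommRing C] [Algebra A C]

/-- The conductor of `A` in `C`. -/
def cond (A C : Type u) [CommRing A] [CommRing C] [Algebra A C] : Ideal C where
  carrier := {x | ∀ c : C, x * c ∈ (⊥ : Subalgebra A C)}
  add_mem' hx hy c := by rw [add_mul]; exact add_mem (hx c) (hy c)
  zero_mem' c := by rw [zero_mul]; exact zero_mem _
  smul_mem' r x hx c := by rw [smul_eq_mul, mul_comm r x, mul_assoc]; exact hx _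

/-- Elements some multiple of which, by an element outside `p`, lies in the conductor. -/
def condSat (p : Ideal A) [p.IsPrime] : Ideal C where
  carrier := {x | ∃ t : A, t ∉ p ∧ algebraMap A C t * x ∈ cond A C}
  add_mem' := fun {x y} ⟨t, ht, hx⟩ ⟨t', ht', hy⟩ => by
    refine ⟨t * t', fun h => (‹p.IsPrime›.mem_or_mem h).elim ht ht', ?_⟩
    rw [map_mul, mul_add, mul_right_comm, mul_assoc _ (algebraMap A C t') y]
    exact add_mem (Ideal.mul_mem_right _ _ hx) (Ideal.mul_mem_left _ _ hy)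
  zero_mem' := ⟨1, ‹p.IsPrime›.one_notMem, by simp⟩
  smul_mem' r x := fun ⟨t, ht, hx⟩ => ⟨t, ht, by
    rw [smul_eq_mul, mul_left_comm]; exact Ideal.mul_mem_left _ _ hx⟩

/-- `c` is in `A` locally at `p`. -/
def LocMem (p : Ideal A) (c : C) : Prop := ∃ t : A, t ∉ p ∧ algebraMap A C t * c ∈ (⊥ : Subalgebra A C)

theorem exists_step_aux [Module.Finite A C] (hinj : Function.Injective (algebraMap A C))
    (hns : ¬ Function.Surjective (algebraMap A C)) (hI : InjComap (algebraMap A C))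
    (hP : PIRes (algebraMap A C)) :
    (TrivRes (algebraMap A C) →
      ∃ b : C, b ∉ (⊥ : Subalgebra A C) ∧ b ^ 2 ∈ (⊥ : Subalgebra A C) ∧ b ^ 3 ∈ (⊥ : Subalgebra A C)) ∧
    ((∃ b : C, b ∉ (⊥ : Subalgebra A C) ∧ b ^ 2 ∈ (⊥ : Subalgebra A C) ∧ b ^ 3 ∈ (⊥ : Subalgebra A C)) ∨
      ∃ (ℓ : ℕ) (b : C), ℓ.Prime ∧ b ∉ (⊥ : Subalgebra A C) ∧ (ℓ : C) * b ∈ (⊥ : Subalgebra A C) ∧
        b ^ ℓ ∈ (⊥ : Subalgebra A C)) := by
  classical
  let R := (⊥ : Subalgebra A C)
  let J : Ideal A := (cond A C).comap (algebraMap A C)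
  have hJ : J ≠ ⊤ := fun h => hns fun c => Algebra.mem_bot.1 (by
    have : (1 : A) ∈ J := h ▸ Submodule.mem_top
    simpa using this c)
  obtain ⟨m, hm, hJm⟩ := Ideal.exists_le_maximal J hJ
  have := hm.isPrime
  obtain ⟨p, hp, -⟩ := Ideal.exists_minimalPrimes_le hJm
  have : p.IsPrime := hp.1.1
  have hnilp : ∀ f ∈ p, algebraMap A C f ∈ (condSat p : Ideal C).radical := by
    intro f hf
    let M : Submonoid A :=
      { carrier := {x | ∃ (t : A) (k : ℕ), t ∉ p ∧ x = t * f ^ k}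
        one_mem' := ⟨1, 0, ‹p.IsPrime›.one_notMem, by simp⟩
        mul_mem' := by
          rintro _ _ ⟨t, k, ht, rfl⟩ ⟨t', k', ht', rfl⟩
          exact ⟨t * t', k + k', fun h => (‹p.IsPrime›.mem_or_mem h).elim ht ht', by ring⟩ }
    by_contra hne
    have hdis : Disjoint (J : Set A) M := Set.disjoint_left.2 <| by
      rintro _ hx ⟨t, k, ht, rfl⟩
      refine hne ⟨k, t, ht, ?_⟩
      rw [← map_pow, ← map_mul]
      exact hx
    obtain ⟨p', hp', hJp', hdis'⟩ := Ideal.exists_le_prime_disjoint J M hdis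
    have hle : p' ≤ p := fun x hx => by
      by_contra hxp
      exact Set.disjoint_left.1 hdis' hx ⟨x, 0, hxp, by simp⟩
    exact Set.disjoint_left.1 hdis' (hp.2 ⟨hp', hJp'⟩ hle hf)
      ⟨1, 1, ‹p.IsPrime›.one_notMem, by simp⟩
  have : Algebra.IsIntegral A C := inferInstance
  obtain ⟨q, -, hq, hqp⟩ := Ideal.exists_ideal_over_prime_of_isIntegral p (⊥ : Ideal C) (by
    rw [← RingHom.ker_eq_comap_bot, (RingHom.injective_iff_ker_eq_bot _).1 hinj]
    exact bot_le)
  have hqmem : ∀ a, algebraMap A C a ∈ q ↔ a ∈ p := fun a => by rw [← hqp, Ideal.mem_comap]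
  have hsq : ∀ b ∈ q, ¬ LocMem p b → ∃ b : C, b ∉ R ∧ b ^ 2 ∈ R ∧ b ^ 3 ∈ R := by
    intro b hb hbn
    have hrad : ∃ (t : A) (k : ℕ), t ∉ p ∧ algebraMap A C t * b ^ k ∈ p.map (algebraMap A C) := by
      let M : Submonoid C :=
        { carrier := {x | ∃ (t : A) (k : ℕ), t ∉ p ∧ x = algebraMap A C t * b ^ k}
          one_mem' := ⟨1, 0, ‹p.IsPrime›.one_notMem, by simp⟩
          mul_mem' := by
            rintro _ _ ⟨t, k, ht, rfl⟩ ⟨t', k', ht', rfl⟩
            exact ⟨t * t', k + k', fun h => (‹p.IsPrime›.mem_or_mem h).elim ht ht',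
              by rw [map_mul]; ring⟩ }
      by_contra hne
      push Not at hne
      have hdis : Disjoint ((p.map (algebraMap A C) : Ideal C) : Set C) M := Set.disjoint_left.2 <| by
        rintro _ hx ⟨t, k, ht, rfl⟩
        exact hne t k ht hx
      obtain ⟨r, hr, hpr, hdis'⟩ := Ideal.exists_le_prime_disjoint _ M hdis
      have hrp : r.comap (algebraMap A C) = p := by
        refine le_antisymm (fun a ha => ?_) (Ideal.map_le_iff_le_comap.1 hpr)
        by_contra hap
        exact Set.disjoint_left.1 hdis' ha ⟨a, 0, hap, by simp⟩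
      have hrq : r = q := congrArg PrimeSpectrum.asIdeal
        (hI (a₁ := ⟨r, hr⟩) (a₂ := ⟨q, hq⟩) (PrimeSpectrum.ext (hrp.trans hqp.symm)))
      exact Set.disjoint_left.1 hdis' (hrq ▸ hb) ⟨1, 1, ‹p.IsPrime›.one_notMem, by simp⟩
    obtain ⟨t, k, ht, htk⟩ := hrad
    have hpC : p.map (algebraMap A C) ≤ (condSat p : Ideal C).radical := Ideal.map_le_iff_le_comap.2 hnilp
    obtain ⟨k', t', ht', hk'⟩ := hpC htk
    have hbig : ∀ j, k * k' ≤ j → LocMem p (b ^ j) := fun j hj => by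
      obtain ⟨i, rfl⟩ := Nat.exists_eq_add_of_le hj
      refine ⟨t' * t ^ k', fun h => (‹p.IsPrime›.mem_or_mem h).elim ht'
        fun h' => ht (‹p.IsPrime›.mem_of_pow_mem _ h'), ?_⟩
      have := hk' (b ^ i)
      convert this using 1
      rw [map_mul, map_pow, mul_pow, pow_add, pow_mul]
      ring
    have hex : ∃ K, ∀ j, K ≤ j → LocMem p (b ^ j) := ⟨_, hbig⟩
    let K := Nat.find hex
    have hK : ∀ j, K ≤ j → LocMem p (b ^ j) := Nat.find_spec hex
    have hK2 : 2 ≤ K := by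
      by_contra h
      exact hbn (by simpa using hK 1 (by omega))
    obtain ⟨j, hjlt, hjn⟩ : ∃ j, K - 1 ≤ j ∧ ¬ LocMem p (b ^ j) := by
      have := Nat.find_min hex (show K - 1 < K by omega)
      push Not at this
      exact this
    obtain ⟨t₂, ht₂, h2⟩ := hK (j * 2) (by omega)
    obtain ⟨t₃, ht₃, h3⟩ := hK (j * 3) (by omega)
    refine ⟨algebraMap A C (t₂ * t₃) * b ^ j, fun h => hjn ⟨t₂ * t₃,
      fun h' => (‹p.IsPrime›.mem_or_mem h').elim ht₂ ht₃, h⟩, ?_, ?_⟩
    · have e : (algebraMap A C (t₂ * t₃) * b ^ j) ^ 2 =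
          algebraMap A C (t₂ * t₃ ^ 2) * (algebraMap A C t₂ * b ^ (j * 2)) := by
        rw [mul_pow, ← pow_mul, map_mul, map_mul, map_pow]; ring
      rw [e]
      exact mul_mem (R.algebraMap_mem _) h2
    · have e : (algebraMap A C (t₂ * t₃) * b ^ j) ^ 3 =
          algebraMap A C (t₂ ^ 3 * t₃ ^ 2) * (algebraMap A C t₃ * b ^ (j * 3)) := by
        rw [mul_pow, ← pow_mul, map_mul, map_mul, map_pow, map_pow]; ring
      rw [e]
      exact mul_mem (R.algebraMap_mem _) h3
  have hexc : ∃ c : C, ¬ LocMem p c := by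
    by_contra hall
    push Not at hall
    obtain ⟨S, hS⟩ := (‹Module.Finite A C›.fg_top : (⊤ : Submodule A C).FG)
    choose t ht htm using hall
    have hprod : algebraMap A C (∏ c ∈ S, t c) ∈ cond A C := by
      intro c
      have hc : c ∈ Submodule.span A (S : Set C) := hS ▸ Submodule.mem_top
      induction hc using Submodule.span_induction with
      | mem x hx =>
        rw [← Finset.mul_prod_erase S t hx, map_mul, mul_right_comm]
        exact mul_mem (htm x) (R.algebraMap_mem _)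
      | zero => rw [mul_zero]; exact zero_mem _
      | add x y _ _ hx hy => rw [mul_add]; exact add_mem hx hy
      | smul a x _ hx => rw [mul_smul_comm]; exact R.smul_mem hx a
    obtain ⟨c, -, hc⟩ := (Ideal.IsPrime.prod_mem_iff).1 (hp.1.2 hprod : (∏ c ∈ S, t c) ∈ p)
    exact ht c hc
  obtain ⟨c, hc⟩ := hexc
  have hred : ∀ c : C, ¬ LocMem p c → ∀ s a : A, s ∉ p → algebraMap A C s * c - algebraMap A C a ∈ q →
      ∃ b : C, b ∉ R ∧ b ^ 2 ∈ R ∧ b ^ 3 ∈ R := fun c hc s a hs ha => hsq _ ha fun ⟨t, ht, h⟩ => by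
    refine hc ⟨t * s, fun h' => (‹p.IsPrime›.mem_or_mem h').elim ht hs, ?_⟩
    have : algebraMap A C (t * s) * c =
        algebraMap A C t * (algebraMap A C s * c - algebraMap A C a) + algebraMap A C (t * a) := by
      rw [map_mul, map_mul]; ring
    rw [this]
    exact add_mem h (R.algebraMap_mem _)
  refine ⟨fun hT => ?_, ?_⟩
  · obtain ⟨s, a, hs, ha⟩ := hT q c
    exact hred c hc s a (fun h => hs ((hqmem s).2 h)) ha
  by_cases hbad : ∃ b ∈ q, ¬ LocMem p b
  · obtain ⟨b, hb, hbn⟩ := hbad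
    exact Or.inl (hsq b hb hbn)
  push Not at hbad
  obtain ⟨N, s, a, hs, ha, hN⟩ := hP q c
  have hs' : s ∉ p := fun h => hs ((hqmem s).2 h)
  rcases hN with rfl | ⟨ℓ, n, hℓ, rfl, hℓq⟩
  · exact Or.inl (hred c hc s a hs' (by simpa using ha))
  -- the least power reducing to the base
  have hex : ∃ n, ∃ s a : A, s ∉ p ∧ algebraMap A C s * c ^ ℓ ^ n - algebraMap A C a ∈ q :=
    ⟨n, s, a, hs', ha⟩
  obtain ⟨s₁, a₁, hs₁, ha₁⟩ := Nat.find_spec hex
  rcases Nat.eq_zero_or_eq_succ_pred (Nat.find hex) with h0 | h0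
  · rw [h0, pow_zero, pow_one] at ha₁
    exact Or.inl (hred c hc s₁ a₁ hs₁ ha₁)
  set n' := (Nat.find hex).pred
  have hmin : ∀ s a : A, s ∉ p → algebraMap A C s * c ^ ℓ ^ n' - algebraMap A C a ∉ q := fun s a hs h =>
    Nat.find_min hex (m := n') (by omega) ⟨s, a, hs, h⟩
  rw [h0, pow_succ, pow_mul] at ha₁
  set c' := c ^ ℓ ^ n'
  obtain ⟨t, ht, h1⟩ := hbad _ ha₁
  obtain ⟨t', ht', h2⟩ := hbad ((ℓ : C) * c') (Ideal.mul_mem_right _ _ hℓq)
  let T := t * s₁ * t'
  have hT : T ∉ p := fun h => (‹p.IsPrime›.mem_or_mem h).elim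
    (fun h' => (‹p.IsPrime›.mem_or_mem h').elim ht hs₁) ht'
  refine Or.inr ⟨ℓ, algebraMap A C T * c', hℓ, fun h => ?_, ?_, ?_⟩
  · obtain ⟨x, hx⟩ := Algebra.mem_bot.1 h
    exact hmin T x hT (by rw [← hx, sub_self]; exact q.zero_mem)
  · have e : (ℓ : C) * (algebraMap A C T * c') =
        algebraMap A C (t * s₁) * (algebraMap A C t' * ((ℓ : C) * c')) := by
      simp only [T, map_mul]; ring
    rw [e]
    exact mul_mem (R.algebraMap_mem _) h2
  · obtain ⟨l, hl⟩ : ∃ l, ℓ = l + 1 := ⟨ℓ - 1, by have := hℓ.pos; omega⟩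
    have e : (algebraMap A C T * c') ^ ℓ = algebraMap A C (T ^ l * t') *
        (algebraMap A C t * (algebraMap A C s₁ * c' ^ ℓ - algebraMap A C a₁)) +
          algebraMap A C (T ^ l * t' * (t * a₁)) := by
      rw [hl, mul_pow, pow_succ (algebraMap A C T)]
      simp only [T, map_mul, map_pow]
      ring
    rw [e]
    exact add_mem (mul_mem (R.algebraMap_mem _) h1) (R.algebraMap_mem _)

end GrothLib.UHTower
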