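import Groth.Agent.Lib.UHTower.Key
import Mathlib.Algebra.CharP.Lemmas

/-!
# Towers of elementary extensions
-/

set_option autoImplicit false

universe u

namespace GrothLib.UHTower

variable {A B : Type u} [CommRing A] [CommRing B] [Algebra A B]

/-- A square–cube step. -/
def GSQ (S : Subalgebra A B) (b : B) : Prop := b ^ 2 ∈ S ∧ b ^ 3 ∈ S

/-- A square–cube or prime step. -/
def GP (S : Subalgebra A B) (b : B) : Prop :=
  GSQ S b ∨ ∃ p : ℕ, p.Prime ∧ (p : B) * b ∈ S ∧ b ^ p ∈ S

/-- The elements of `l` before position `i`. -/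
def prefixSet (l : List B) (i : Fin l.length) : Set B := {b | ∃ j : Fin l.length, j < i ∧ b = l.get j}

/-- A tower of `G`-steps. -/
def IsTower (G : Subalgebra A B → B → Prop) (l : List B) : Prop :=
  ∀ i : Fin l.length, G (Algebra.adjoin A (prefixSet l i)) (l.get i)

/-- Every finite set lies in a tower. -/
def HasTowers (G : Subalgebra A B → B → Prop) : Prop :=
  ∀ E : Finset B, ∃ l : List B, (↑E : Set B) ⊆ Algebra.adjoin A {b : B | b ∈ l} ∧ IsTower G l

theorem GSQ.mono {S T : Subalgebra A B} {b : B} (h : GSQ S b) (hST : S ≤ T) : GSQ T b :=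
  ⟨hST h.1, hST h.2⟩

theorem GP.mono {S T : Subalgebra A B} {b : B} (h : GP S b) (hST : S ≤ T) : GP T b :=
  h.imp (fun h => h.mono hST) fun ⟨p, hp, h1, h2⟩ => ⟨p, hp, hST h1, hST h2⟩

/-- Steps stay steps over larger subalgebras. -/
def Mono (G : Subalgebra A B → B → Prop) : Prop :=
  ∀ (S T : Subalgebra A B) (b : B), G S b → S ≤ T → G T b

theorem mono_gsq : Mono (GSQ (A := A) (B := B)) := fun _ _ _ h h' => GSQ.mono h h'

theorem mono_gp : Mono (GP (A := A) (B := B)) := fun _ _ _ h h' => GP.mono h h'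

variable {G : Subalgebra A B → B → Prop}
variable (hmono : Mono G)

include hmono

theorem adjoin_le_of_tower (P : Subalgebra A B) (hstep : ∀ b, G P b → b ∈ P) {l : List B}
    (hl : IsTower G l) : Algebra.adjoin A {b : B | b ∈ l} ≤ P := by
  have key : ∀ n, ∀ i : Fin l.length, (i : ℕ) = n → l.get i ∈ P := by
    intro n
    induction n using Nat.strong_induction_on with
    | _ n ih =>
      intro i hi
      refine hstep _ (hmono _ _ _ (hl i) (Algebra.adjoin_le ?_))
      rintro _ ⟨j, hj, rfl⟩
      exact ih j (hi ▸ hj) j rfl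
  refine Algebra.adjoin_le fun b hb => ?_
  obtain ⟨i, rfl⟩ := List.get_of_mem hb
  exact key i i rfl

theorem eq_top_of_hasTowers (P : Subalgebra A B) (hstep : ∀ b, G P b → b ∈ P)
    (h : HasTowers G) : P = ⊤ := by
  refine eq_top_iff.2 fun b _ => ?_
  obtain ⟨l, hbl, hl⟩ := h {b}
  exact adjoin_le_of_tower hmono P hstep hl (hbl (Finset.mem_singleton_self b))

theorem IsTower.append {l m : List B} (hl : IsTower G l) (hm : IsTower G m) : IsTower G (l ++ m) := by
  rintro ⟨i, hi⟩
  simp only [List.get_eq_getElem]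
  rcases Nat.lt_or_ge i l.length with h | h
  · have e : (l ++ m)[i] = l[i] := List.getElem_append_left h
    rw [e]
    refine hmono _ _ _ (hl ⟨i, h⟩) (Algebra.adjoin_mono ?_)
    rintro _ ⟨j, hj, rfl⟩
    exact ⟨⟨j, j.2.trans_le (by simp)⟩, hj, by simp [List.getElem_append_left j.2]⟩
  · have hi' : i - l.length < m.length := by simp at hi; omega
    have e : (l ++ m)[i] = m[i - l.length] := List.getElem_append_right h
    rw [e]
    refine hmono _ _ _ (hm ⟨i - l.length, hi'⟩) (Algebra.adjoin_mono ?_)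
    rintro _ ⟨⟨j, hj'⟩, hj, rfl⟩
    refine ⟨⟨l.length + j, by simp; omega⟩, ?_, ?_⟩
    · change l.length + j < i
      have : j < i - l.length := hj
      omega
    · simp [List.getElem_append_right]

theorem IsTower.snoc {l : List B} (hl : IsTower G l) {b : B}
    (hb : G (Algebra.adjoin A {x : B | x ∈ l}) b) : IsTower G (l ++ [b]) := by
  rintro ⟨i, hi⟩
  simp only [List.get_eq_getElem]
  rcases Nat.lt_or_ge i l.length with h | h
  · have e : (l ++ [b])[i] = l[i] := List.getElem_append_left h
    rw [e]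
    refine hmono _ _ _ (hl ⟨i, h⟩) (Algebra.adjoin_mono ?_)
    rintro _ ⟨j, hj, rfl⟩
    exact ⟨⟨j, j.2.trans_le (by simp)⟩, hj, by simp [List.getElem_append_left j.2]⟩
  · have hil : i = l.length := by simp at hi; omega
    subst hil
    have e : (l ++ [b])[l.length] = b := by simp
    rw [e]
    refine hmono _ _ _ hb (Algebra.adjoin_mono ?_)
    intro x hx
    obtain ⟨j, rfl⟩ := List.get_of_mem hx
    exact ⟨⟨j, j.2.trans_le (by simp)⟩, j.2, by simp [List.getElem_append_left j.2]⟩

theorem hasTowers_of_step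
    (hfin : ∀ (U : Subalgebra A B) (b : B), G U b → ∃ s : Finset B, (↑s : Set B) ⊆ U ∧
      G (Algebra.adjoin A ↑s) b)
    (hstep : ∀ S : Subalgebra A B, ∀ c ∉ S, ∃ b ∉ S, G S b) : HasTowers G := by
  classical
  let U : Subalgebra A B :=
    { carrier := {x | ∃ l, IsTower G l ∧ x ∈ Algebra.adjoin A {b : B | b ∈ l}}
      mul_mem' := by
        rintro x y ⟨l, hl, hx⟩ ⟨m, hm, hy⟩
        exact ⟨l ++ m, IsTower.append hmono hl hm, mul_mem
          (Algebra.adjoin_mono (fun b hb => List.mem_append_left m hb) hx)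
          (Algebra.adjoin_mono (fun b hb => List.mem_append_right l hb) hy)⟩
      add_mem' := by
        rintro x y ⟨l, hl, hx⟩ ⟨m, hm, hy⟩
        exact ⟨l ++ m, IsTower.append hmono hl hm, add_mem
          (Algebra.adjoin_mono (fun b hb => List.mem_append_left m hb) hx)
          (Algebra.adjoin_mono (fun b hb => List.mem_append_right l hb) hy)⟩
      algebraMap_mem' := fun a => ⟨[], fun i => i.elim0, Subalgebra.algebraMap_mem _ a⟩ }
  have hfinite : ∀ s : Finset B, (↑s : Set B) ⊆ U →
      ∃ l, IsTower G l ∧ (↑s : Set B) ⊆ Algebra.adjoin A {b : B | b ∈ l} := by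
    intro s
    induction s using Finset.induction with
    | empty => exact fun _ => ⟨[], fun i => i.elim0, by simp⟩
    | insert x s _ ih =>
      intro hs
      rw [Finset.coe_insert, Set.insert_subset_iff] at hs
      obtain ⟨⟨l, hl, hx⟩, hs⟩ := hs
      obtain ⟨m, hm, hsm⟩ := ih hs
      refine ⟨l ++ m, IsTower.append hmono hl hm, ?_⟩
      rw [Finset.coe_insert, Set.insert_subset_iff]
      exact ⟨Algebra.adjoin_mono (fun b hb => List.mem_append_left m hb) hx,
        hsm.trans (Algebra.adjoin_mono fun b hb => List.mem_append_right l hb)⟩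
  have htop : ∀ x, x ∈ U := by
    intro x
    by_contra hx
    obtain ⟨b, hb, hG⟩ := hstep U x hx
    obtain ⟨s, hs, hGs⟩ := hfin U b hG
    obtain ⟨l, hl, hsl⟩ := hfinite s hs
    exact hb ⟨l ++ [b], IsTower.snoc hmono hl (hmono _ _ _ hGs (Algebra.adjoin_le hsl)),
      Algebra.subset_adjoin (List.mem_append_right l (List.mem_singleton_self b))⟩
  intro E
  obtain ⟨l, hl, hEl⟩ := hfinite E fun x _ => htop x
  exact ⟨l, hEl, hl⟩

omit hmono

theorem GSQ.exists_finset (U : Subalgebra A B) (b : B) (h : GSQ U b) :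
    ∃ s : Finset B, (↑s : Set B) ⊆ U ∧ GSQ (Algebra.adjoin A (↑s : Set B)) b := by
  classical
  exact ⟨{b ^ 2, b ^ 3}, by simp [Set.insert_subset_iff, h.1, h.2],
    Algebra.subset_adjoin (by simp), Algebra.subset_adjoin (by simp)⟩

theorem GP.exists_finset (U : Subalgebra A B) (b : B) (h : GP U b) :
    ∃ s : Finset B, (↑s : Set B) ⊆ U ∧ GP (Algebra.adjoin A (↑s : Set B)) b := by
  classical
  rcases h with h | ⟨p, hp, h1, h2⟩
  · obtain ⟨s, hs, hs'⟩ := GSQ.exists_finset U b h
    exact ⟨s, hs, Or.inl hs'⟩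
  · exact ⟨{(p : B) * b, b ^ p}, by simp [Set.insert_subset_iff, h1, h2],
      Or.inr ⟨p, hp, Algebra.subset_adjoin (by simp), Algebra.subset_adjoin (by simp)⟩⟩

/-- The step in an ambient algebra. -/
theorem exists_step (hint : (algebraMap A B).IsIntegral) (hI : InjComap (algebraMap A B))
    (hP : PIRes (algebraMap A B)) (S : Subalgebra A B) (c : B) (hc : c ∉ S) :
    (TrivRes (algebraMap A B) → ∃ b ∉ S, GSQ S b) ∧ ∃ b ∉ S, GP S b := by
  have : Algebra.IsIntegral A B := ⟨hint⟩
  have : Algebra.IsIntegral S B := Algebra.IsIntegral.tower_top (R := A)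
  have hintS : (algebraMap S B).IsIntegral := fun x => Algebra.IsIntegral.isIntegral x
  let C : Subalgebra S B := Algebra.adjoin S {c}
  have : Module.Finite S C :=
    Module.Finite.iff_fg.2 (IsIntegral.fg_adjoin_singleton (Algebra.IsIntegral.isIntegral c))
  have hmem : ∀ x : C, x ∈ (⊥ : Subalgebra S C) ↔ (x : B) ∈ S := fun x => by
    rw [Algebra.mem_bot]
    exact ⟨fun ⟨y, hy⟩ => hy ▸ y.2, fun h => ⟨⟨x, h⟩, rfl⟩⟩
  have hinj : Function.Injective (algebraMap S C) := fun x y h =>
    Subtype.ext (congrArg (fun z : C => (z : B)) h)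
  have hns : ¬ Function.Surjective (algebraMap S C) := fun hs => by
    obtain ⟨y, hy⟩ := hs ⟨c, Algebra.subset_adjoin rfl⟩
    have e : (y : B) = c := congrArg (fun z : C => (z : B)) hy
    exact hc (e ▸ y.2)
  obtain ⟨h1, h2⟩ := exists_step_aux hinj hns ((hI.subalgebra S).restrict (S := C) hintS)
    ((hP.subalgebra S).restrict (S := C) hintS)
  refine ⟨fun hT => ?_, ?_⟩
  · obtain ⟨b, hb, hb2, hb3⟩ := h1 ((hT.subalgebra S).restrict (S := C) hintS)
    rw [hmem] at hb hb2 hb3
    exact ⟨b, hb, by simpa using hb2, by simpa using hb3⟩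
  · rcases h2 with ⟨b, hb, hb2, hb3⟩ | ⟨p, b, hp, hb, hpb, hbp⟩
    · rw [hmem] at hb hb2 hb3
      exact ⟨b, hb, Or.inl ⟨by simpa using hb2, by simpa using hb3⟩⟩
    · rw [hmem] at hb hpb hbp
      exact ⟨b, hb, Or.inr ⟨p, hp, by simpa using hpb, by simpa using hbp⟩⟩

theorem hasTowers_gsq (h : UH (algebraMap A B)) (hT : TrivRes (algebraMap A B)) :
    HasTowers (GSQ (A := A) (B := B)) :=
  hasTowers_of_step mono_gsq GSQ.exists_finset fun S c hc =>
    (exists_step h.1 h.2.2.injComap hT.pires S c hc).1 hT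

theorem hasTowers_gp (h : UH (algebraMap A B)) : HasTowers (GP (A := A) (B := B)) :=
  hasTowers_of_step mono_gp GP.exists_finset fun S c hc =>
    (exists_step h.1 h.2.2.injComap h.2.2.pires S c hc).2

theorem isIntegral_of_hasTowers (h : HasTowers (GP (A := A) (B := B))) : (algebraMap A B).IsIntegral := by
  have := eq_top_of_hasTowers mono_gp (integralClosure A B) (fun b hb => by
    rcases hb with ⟨h2, -⟩ | ⟨p, hp, -, hbp⟩
    · exact IsIntegral.of_pow two_pos ((mem_integralClosure_iff A B).1 h2)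
    · exact IsIntegral.of_pow hp.pos ((mem_integralClosure_iff A B).1 hbp)) h
  exact fun x => (this ▸ Algebra.mem_top : x ∈ integralClosure A B)

theorem radic_of_hasTowers (h : HasTowers (GP (A := A) (B := B))) : Radic (algebraMap A B) := by
  intro K _ f g hfg
  let P : Subalgebra A B :=
    { (RingHom.eqLocus f g).toSubsemiring with algebraMap_mem' := fun a => RingHom.congr_fun hfg a }
  have key : ∀ b, GP P b → b ∈ P := by
    intro b hb
    change f b = g b
    rcases hb with ⟨h2, h3⟩ | ⟨p, hp, h1, h2⟩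
    · change f (b ^ 2) = g (b ^ 2) at h2
      change f (b ^ 3) = g (b ^ 3) at h3
      have e2 : f b ^ 2 = g b ^ 2 := by simpa using h2
      have e3 : f b ^ 3 = g b ^ 3 := by simpa using h3
      rcases eq_or_ne (f b) 0 with h0 | h0
      · rw [h0] at e2 ⊢
        exact (pow_eq_zero_iff two_ne_zero).1 (e2.symm.trans (zero_pow two_ne_zero)) |>.symm
      · refine mul_left_cancel₀ (pow_ne_zero 2 h0) ?_
        rw [← pow_succ, e3, e2, ← pow_succ]
    · change f ((p : B) * b) = g ((p : B) * b) at h1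
      change f (b ^ p) = g (b ^ p) at h2
      have e1 : (p : K) * f b = (p : K) * g b := by simpa using h1
      have e2 : f b ^ p = g b ^ p := by simpa using h2
      rcases eq_or_ne (p : K) 0 with h0 | h0
      · have : Fact p.Prime := ⟨hp⟩
        have : CharP K p := (CharP.charP_iff_prime_eq_zero hp).2 h0
        have e4 : (f b - g b) ^ p = 0 := by rw [sub_pow_char, e2, sub_self]
        exact sub_eq_zero.1 ((pow_eq_zero_iff hp.ne_zero).1 e4)
      · exact mul_left_cancel₀ h0 e1
  have htop := eq_top_of_hasTowers mono_gp P key h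
  exact RingHom.ext fun b => (htop ▸ Algebra.mem_top : b ∈ P)

theorem trivRes_of_hasTowers (h : HasTowers (GSQ (A := A) (B := B))) : TrivRes (algebraMap A B) := by
  intro Q _ b
  let P : Subalgebra A B :=
    { carrier := {b | ∃ s a : A, algebraMap A B s ∉ Q ∧ algebraMap A B s * b - algebraMap A B a ∈ Q}
      mul_mem' := by
        rintro x y ⟨s, a, hs, ha⟩ ⟨t, c, ht, hc⟩
        refine ⟨s * t, a * c, by rw [map_mul]; exact fun h' => (‹Q.IsPrime›.mem_or_mem h').elim hs ht, ?_⟩
        have e : algebraMap A B (s * t) * (x * y) - algebraMap A B (a * c) =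
            (algebraMap A B s * x - algebraMap A B a) * (algebraMap A B t * y) +
              algebraMap A B a * (algebraMap A B t * y - algebraMap A B c) := by
          rw [map_mul, map_mul]; ring
        rw [e]
        exact add_mem (Q.mul_mem_right _ ha) (Q.mul_mem_left _ hc)
      add_mem' := by
        rintro x y ⟨s, a, hs, ha⟩ ⟨t, c, ht, hc⟩
        refine ⟨s * t, a * t + s * c, by rw [map_mul]; exact fun h' => (‹Q.IsPrime›.mem_or_mem h').elim hs ht, ?_⟩
        have e : algebraMap A B (s * t) * (x + y) - algebraMap A B (a * t + s * c) =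
            algebraMap A B t * (algebraMap A B s * x - algebraMap A B a) +
              algebraMap A B s * (algebraMap A B t * y - algebraMap A B c) := by
          rw [map_mul, map_add, map_mul, map_mul]; ring
        rw [e]
        exact add_mem (Q.mul_mem_left _ ha) (Q.mul_mem_left _ hc)
      algebraMap_mem' := fun a => ⟨1, a, by simpa using ‹Q.IsPrime›.one_notMem, by simp⟩ }
  have key : ∀ b, GSQ P b → b ∈ P := by
    rintro b ⟨⟨s, a, hs, ha⟩, ⟨t, c, ht, hc⟩⟩
    by_cases hb : b ∈ Q
    · exact ⟨1, 0, by simpa using ‹Q.IsPrime›.one_notMem, by simpa using hb⟩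
    refine ⟨a * t, c * s, fun h' => ?_, ?_⟩
    · rw [map_mul] at h'
      rcases ‹Q.IsPrime›.mem_or_mem h' with h'' | h''
      · rcases ‹Q.IsPrime›.mem_or_mem (by simpa using Q.add_mem ha h'' : algebraMap A B s * b ^ 2 ∈ Q) with h1 | h1
        · exact hs h1
        · exact hb (‹Q.IsPrime›.mem_of_pow_mem _ h1)
      · exact ht h''
    · have e : algebraMap A B (a * t) * b - algebraMap A B (c * s) =
          algebraMap A B s * (algebraMap A B t * b ^ 3 - algebraMap A B c) -
            algebraMap A B t * b * (algebraMap A B s * b ^ 2 - algebraMap A B a) := by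
        rw [map_mul, map_mul]; ring
      rw [e]
      exact sub_mem (Q.mul_mem_left _ hc) (Q.mul_mem_left _ ha)
  have htop := eq_top_of_hasTowers mono_gsq P key h
  exact (htop ▸ Algebra.mem_top : b ∈ P)

theorem HasTowers.gp (h : HasTowers (GSQ (A := A) (B := B))) : HasTowers (GP (A := A) (B := B)) :=
  fun E => (h E).imp fun _ ⟨h1, h2⟩ => ⟨h1, fun i => Or.inl (h2 i)⟩

theorem surjective_comap_of_injective (hinj : Function.Injective (algebraMap A B))
    (hint : (algebraMap A B).IsIntegral) : Function.Surjective (PrimeSpectrum.comap (algebraMap A B)) := by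
  intro p
  have : Algebra.IsIntegral A B := ⟨hint⟩
  obtain ⟨Q, -, hQ, e⟩ := Ideal.exists_ideal_over_prime_of_isIntegral p.asIdeal (⊥ : Ideal B) (by
    rw [← RingHom.ker_eq_comap_bot, (RingHom.injective_iff_ker_eq_bot _).1 hinj]
    exact bot_le)
  exact ⟨⟨Q, hQ⟩, PrimeSpectrum.ext e⟩

theorem uh_trivRes_iff_hasTowers (hinj : Function.Injective (algebraMap A B)) :
    UH (algebraMap A B) ∧ TrivRes (algebraMap A B) ↔ HasTowers (GSQ (A := A) (B := B)) :=
  ⟨fun h => hasTowers_gsq h.1 h.2, fun h =>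
    have hi := isIntegral_of_hasTowers h.gp
    ⟨⟨hi, surjective_comap_of_injective hinj hi, radic_of_hasTowers h.gp⟩, trivRes_of_hasTowers h⟩⟩

theorem uh_iff_hasTowers (hinj : Function.Injective (algebraMap A B)) :
    UH (algebraMap A B) ↔ HasTowers (GP (A := A) (B := B)) :=
  ⟨hasTowers_gp, fun h =>
    have hi := isIntegral_of_hasTowers h
    ⟨hi, surjective_comap_of_injective hinj hi, radic_of_hasTowers h⟩⟩

end GrothLib.UHTower
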